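import Groth.Agent.HLocLib.Basic
import Groth.Agent.QCohLib.Push
import Groth.Prelude.Def_ega3
import Mathlib.Algebra.Module.LocalizedModule.Basic

/-!
# Cohomology on the non-vanishing locus of a global function
-/

set_option autoImplicit false
set_option linter.style.haveILetI false

universe u

open CategoryTheory Opposite TopologicalSpace AlgebraicGeometry
open Groth.Agent.CohBase

noncomputable section

namespace Groth.Agent.HLocLib

section Cochains

variable {X : Scheme.{u}} (f : Γ(X, ⊤)) (M : X.Modules) [Coh.IsQCoh M] {ι : Type u} [Finite ι] (U : ι → X.Opens)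
  (hI : ∀ (m : ℕ) (a : Fin (m + 1) → ι), IsAffineOpen (inter U a))

include hI

lemma image_eq_basicOpen {m : ℕ} (i : Fin (m + 1) → ι) :
    (X.basicOpen f).ι ''ᵁ inter (preU (X.basicOpen f) U) i =
      X.basicOpen (X.presheaf.map (homOfLE (le_top : inter U i ≤ ⊤)).op f) := by
  rw [image_inter, Scheme.basicOpen_res]
  exact inf_comm _ _

lemma isAffineOpen_inter_preU (m : ℕ) (i : Fin (m + 1) → ι) :
    IsAffineOpen (inter (preU (X.basicOpen f) U) i) := by
  rw [← (X.basicOpen f).ι.isAffineOpen_iff_of_isOpenImmersion, image_eq_basicOpen f U hI]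
  exact (hI m i).basicOpen _

/-- Cochains on the basic open extend after multiplying by a power. -/
lemma exists_lift {n : ℕ} (y : CC (preU (X.basicOpen f) U) (Coh.toAb (M.restrict (X.basicOpen f).ι)).obj n) :
    ∃ (N : ℕ) (c : CC U (Coh.toAb M).obj n), rho (X.basicOpen f) M U n c =
      ccMap (preU (X.basicOpen f) U)
        (Coh.smulAb (M.restrict (X.basicOpen f).ι) (resFun (X.basicOpen f) (f ^ N : Γ(X, ⊤)))).hom n y := by
  classical
  haveI := Fintype.ofFinite ι
  have h := fun i : Fin (n + 1) → ι => exists_pow_extend M (hI n i) _ (image_eq_basicOpen f U hI i) (y i)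
  choose k s hs using h
  refine ⟨Finset.univ.sup k, fun i => sc (M := M) (f ^ (Finset.univ.sup k - k i)) le_top (s i), ?_⟩
  funext i
  refine Eq.trans ?_ (smulAb_restrict (X.basicOpen f) M _ _ _).symm
  refine (map_sc (M := M) (f ^ (Finset.univ.sup k - k i)) le_top (image_inter_le (X.basicOpen f) U i) (s i)).trans ?_
  refine (congrArg _ (hs i)).trans ?_
  rw [← map_pow, sc_res, ← sc_mul, ← pow_add, Nat.sub_add_cancel (Finset.le_sup (Finset.mem_univ i))]

/-- Cochains vanishing on the basic open are killed by a power. -/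
lemma exists_kill {n : ℕ} (c : CC U (Coh.toAb M).obj n) (hc : rho (X.basicOpen f) M U n c = 0) :
    ∃ N : ℕ, ccMap U (Coh.smulAb M (f ^ N : Γ(X, ⊤))).hom n c = 0 := by
  classical
  haveI := Fintype.ofFinite ι
  have h := fun i : Fin (n + 1) → ι =>
    exists_pow_zero M (hI n i) _ (image_eq_basicOpen f U hI i) (c i) (congrFun hc i)
  choose k hk using h
  refine ⟨Finset.univ.sup k, funext fun i => ?_⟩
  have hN : f ^ Finset.univ.sup k = f ^ (Finset.univ.sup k - k i) * f ^ k i := by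
    rw [← pow_add, Nat.sub_add_cancel (Finset.le_sup (Finset.mem_univ i))]
  refine (congrArg (fun a => sc (M := M) a (le_top : inter U i ≤ ⊤) (c i)) hN).trans ?_
  rw [sc_mul]
  refine Eq.trans (congrArg _ ?_) (map_zero _)
  rw [← hk i, ← map_pow, sc_res]

omit hI [Coh.IsQCoh M] [Finite ι] in
lemma rho_pow {n : ℕ} (N N' : ℕ) (c : CC U (Coh.toAb M).obj n)
    (w : CC (preU (X.basicOpen f) U) (Coh.toAb (M.restrict (X.basicOpen f).ι)).obj n)
    (hc : rho (X.basicOpen f) M U n c = ccMap (preU (X.basicOpen f) U)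
      (Coh.smulAb (M.restrict (X.basicOpen f).ι) (resFun (X.basicOpen f) (f ^ N : Γ(X, ⊤)))).hom n w) :
    rho (X.basicOpen f) M U n (ccMap U (Coh.smulAb M (f ^ N' : Γ(X, ⊤))).hom n c) =
      ccMap (preU (X.basicOpen f) U)
        (Coh.smulAb (M.restrict (X.basicOpen f).ι) (resFun (X.basicOpen f) (f ^ (N' + N) : Γ(X, ⊤)))).hom n w := by
  rw [rho_smul, hc]
  have e : resFun (X.basicOpen f) (f ^ (N' + N) : Γ(X, ⊤)) =
      resFun (X.basicOpen f) (f ^ N' : Γ(X, ⊤)) * resFun (X.basicOpen f) (f ^ N : Γ(X, ⊤)) := by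
    rw [pow_add]
    exact map_mul (resFun (X.basicOpen f)) _ _
  rw [e, Coh.smulAb_mul, ccMap_ccMap]
  rfl

end Cochains

lemma isUnit_resFun {X : Scheme.{u}} (f : Γ(X, ⊤)) : IsUnit (resFun (X.basicOpen f) f) := by
  have h := X.toRingedSpace.isUnit_res_basicOpen f
  have h' := h.map (X.presheaf.map (homOfLE
    ((X.basicOpen f).ι_image_le ⊤)).op).hom
  have e : (X.presheaf.map (homOfLE ((X.basicOpen f).ι_image_le ⊤)).op)
      ((X.presheaf.map (homOfLE (le_top : X.basicOpen f ≤ ⊤)).op) f) = resFun (X.basicOpen f) f := by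
    rw [← ConcreteCategory.comp_apply, ← Functor.map_comp]
    rfl
  exact e ▸ h'

lemma ccMap_smul_mul {X : Scheme.{u}} (M : X.Modules) {ι : Type u} (U : ι → X.Opens) (n : ℕ) (r s : Coh.Γtop X)
    (c : CC U (Coh.toAb M).obj n) :
    ccMap U (Coh.smulAb M (r * s)).hom n c = ccMap U (Coh.smulAb M r).hom n (ccMap U (Coh.smulAb M s).hom n c) := by
  rw [Coh.smulAb_mul, ccMap_ccMap]
  rfl

/-- The class of a cocycle. -/
def classOf {X : Scheme.{u}} (M : X.Modules) {ι : Type u} (U : ι → X.Opens) (hcov : ⊤ ≤ iSup U)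
    (hA : Acyclic U (Coh.toAb M)) (p : ℕ) : Zc U (Coh.toAb M).obj p →+ Coh.HH X M p :=
  (HHEquiv M p).symm.toAddMonoidHom.comp (cmp U hcov hA p)

lemma classOf_surjective {X : Scheme.{u}} (M : X.Modules) {ι : Type u} (U : ι → X.Opens) (hcov : ⊤ ≤ iSup U)
    (hA : Acyclic U (Coh.toAb M)) (p : ℕ) : Function.Surjective (classOf M U hcov hA p) :=
  (HHEquiv M p).symm.surjective.comp (cmp_surjective U hcov hA p)

lemma classOf_eq_zero_iff {X : Scheme.{u}} (M : X.Modules) {ι : Type u} (U : ι → X.Opens) (hcov : ⊤ ≤ iSup U)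
    (hA : Acyclic U (Coh.toAb M)) {p : ℕ} (z : Zc U (Coh.toAb M).obj p) :
    classOf M U hcov hA p z = 0 ↔ z.1 ∈ Bc U (Coh.toAb M).obj p :=
  ((HHEquiv M p).symm.map_eq_zero_iff).trans (cmp_eq_zero_iff U hcov hA z)

lemma classOf_smul {X : Scheme.{u}} (M : X.Modules) {ι : Type u} (U : ι → X.Opens) (hcov : ⊤ ≤ iSup U)
    (hA : Acyclic U (Coh.toAb M)) {p : ℕ} (r : Coh.Γtop X) (z : Zc U (Coh.toAb M).obj p) :
    classOf M U hcov hA p ⟨ccMap U (Coh.smulAb M r).hom p z.1, ccMap_mem_Zc U _ z⟩ =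
      r • classOf M U hcov hA p z := by
  apply (HHEquiv M p).injective
  show HHEquiv M p ((HHEquiv M p).symm _) = HEquiv (Coh.toAb M) p (Sheaf.H.map (Coh.smulAb M r) p _)
  rw [HEquiv_map]
  show HHEquiv M p ((HHEquiv M p).symm _) = hmap (⊤ : X.Opens) _ p (HHEquiv M p ((HHEquiv M p).symm _))
  rw [AddEquiv.apply_symm_apply, AddEquiv.apply_symm_apply]
  exact cmp_natural U hcov hA hA (Coh.smulAb M r) z _ rfl

attribute [local irreducible] classOf

variable {X : Scheme.{u}} [CompactSpace X] [X.IsSeparated]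

/-- Cohomology on the non-vanishing locus is the localization. -/
theorem exists_locMap (f : Γ(X, ⊤)) (M : X.Modules) [Coh.IsQCoh M] (q : ℕ) :
    ∃ ψ : Coh.HH X M q →+ Coh.HHon X M (X.basicOpen f) q,
      (∀ (r : Coh.Γtop X) x, ψ (r • x) = resFun (X.basicOpen f) r • ψ x) ∧
      (∀ y, ∃ (n : ℕ) (x : Coh.HH X M q), ψ x = resFun (X.basicOpen f) (f ^ n : Γ(X, ⊤)) • y) ∧
      ∀ x, ψ x = 0 → ∃ n : ℕ, (f ^ n : Γ(X, ⊤)) • x = 0 := by
  obtain ⟨ι, hfin, U, hU, -, hcov⟩ := QCohLib.exists_finite_affine_cover (X := X) (V := ⊤) isCompact_univ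
  haveI : Finite ι := @Finite.of_fintype ι hfin
  have hI : ∀ (m : ℕ) (a : Fin (m + 1) → ι), IsAffineOpen (inter U a) := fun m a =>
    IsAffineOpen.iInf fun b => hU (a b)
  let O := X.basicOpen f
  let V := preU O U
  have hI' := isAffineOpen_inter_preU f U hI
  have hcov' : ⊤ ≤ iSup V := by
    intro x _
    obtain ⟨k, hk⟩ := Opens.mem_iSup.1 (hcov (Set.mem_univ (O.ι x)))
    exact Opens.mem_iSup.2 ⟨k, hk⟩
  haveI : (M.restrict O.ι).IsQuasicoherent := Scheme.Modules.isQuasicoherent_restrictFunctor _ _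
  have hA := acyclic_of_affine M U hI
  have hA' := acyclic_of_affine (M.restrict O.ι) V hI'
  have hz : ∀ z : Zc U (Coh.toAb M).obj q, rho O M U q z.1 ∈ Zc V (Coh.toAb (M.restrict O.ι)).obj q := fun z => by
    show cdiff V _ q (rho O M U q z.1) = 0
    rw [cdiff_rho, show cdiff U _ q z.1 = 0 from z.2, map_zero]
  let φ : Zc U (Coh.toAb M).obj q →+ Coh.HHon X M O q :=
    (classOf _ V hcov' hA' q).comp (((rho O M U q).comp (AddSubgroup.subtype _)).codRestrict _ hz)
  obtain ⟨ψ, hψ⟩ := addMonoidHom_descend (classOf M U hcov hA q) (classOf_surjective _ _ _ hA q) φ fun z h => by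
    show classOf _ V hcov' hA' q ⟨rho O M U q z.1, hz z⟩ = 0
    rw [classOf_eq_zero_iff] at h ⊢
    cases q with
    | zero => exact (congrArg (rho O M U 0) (show z.1 = 0 from h)).trans (map_zero _)
    | succ p =>
      obtain ⟨b, hb⟩ := h
      exact ⟨rho O M U p b, (cdiff_rho O M U p b).trans (congrArg _ hb)⟩
  refine ⟨ψ, fun r x => ?_, fun y => ?_, fun x hx => ?_⟩
  · obtain ⟨z, rfl⟩ := classOf_surjective M U hcov hA q x
    refine ((congrArg ψ (classOf_smul M U hcov hA r z).symm).trans (hψ _)).trans ?_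
    refine Eq.trans ?_ (congrArg (fun t => resFun O r • t) (hψ z)).symm
    refine Eq.trans ?_ (classOf_smul _ V hcov' hA' (resFun O r) ⟨rho O M U q z.1, hz z⟩)
    exact congrArg (classOf _ V hcov' hA' q) (Subtype.ext (rho_smul O M U q r z.1))
  · obtain ⟨w, rfl⟩ := classOf_surjective _ V hcov' hA' q y
    obtain ⟨N, c, hc⟩ := exists_lift f M U hI w.1
    obtain ⟨N', hN'⟩ := exists_kill f M U hI (cdiff U (Coh.toAb M).obj q c) (by
      rw [← cdiff_rho, hc, cdiff_ccMap, show cdiff V _ q w.1 = 0 from w.2, map_zero])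
    have hmem : ccMap U (Coh.smulAb M (f ^ N' : Γ(X, ⊤))).hom q c ∈ Zc U (Coh.toAb M).obj q :=
      (cdiff_ccMap U _ q c).trans hN'
    refine ⟨N' + N, classOf M U hcov hA q ⟨_, hmem⟩, ?_⟩
    rw [hψ]
    refine Eq.trans ?_ (classOf_smul _ V hcov' hA' _ w)
    show classOf _ V hcov' hA' q _ = _
    refine congrArg (classOf _ V hcov' hA' q) (Subtype.ext ?_)
    exact rho_pow f M U N N' c w.1 hc
  · obtain ⟨z, rfl⟩ := classOf_surjective M U hcov hA q x
    rw [hψ] at hx
    change classOf _ V hcov' hA' q ⟨rho O M U q z.1, hz z⟩ = 0 at hx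
    rw [classOf_eq_zero_iff] at hx
    suffices H : ∃ n : ℕ, ccMap U (Coh.smulAb M (f ^ n : Γ(X, ⊤))).hom q z.1 ∈ Bc U (Coh.toAb M).obj q by
      obtain ⟨n, hn⟩ := H
      exact ⟨n, (classOf_smul M U hcov hA _ z).symm.trans ((classOf_eq_zero_iff M U hcov hA _).2 hn)⟩
    cases q with
    | zero =>
      obtain ⟨n, hn⟩ := exists_kill f M U hI z.1 hx
      exact ⟨n, hn⟩
    | succ p =>
      obtain ⟨b, hb⟩ := hx
      obtain ⟨N, b', hb'⟩ := exists_lift f M U hI b
      obtain ⟨N', hN'⟩ := exists_kill f M U hI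
        (ccMap U (Coh.smulAb M (f ^ N : Γ(X, ⊤))).hom (p + 1) z.1 - cdiff U (Coh.toAb M).obj p b') (by
          rw [map_sub, rho_smul, ← cdiff_rho, hb', cdiff_ccMap, hb, sub_self])
      refine ⟨N' + N, ccMap U (Coh.smulAb M (f ^ N' : Γ(X, ⊤))).hom p b', ?_⟩
      rw [map_sub, sub_eq_zero, ← ccMap_smul_mul, ← cdiff_ccMap] at hN'
      rw [pow_add]
      exact hN'.symm

end Groth.Agent.HLocLib
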