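import Groth.Agent.CohBase.Functorial
import Groth.Agent.CohBase.Localization
import Groth.Agent.CohBase.Affine
import Groth.Prelude.Def_Coh

/-!
# Cohomology on a basic open as a localization
-/

set_option autoImplicit false
set_option linter.style.haveILetI false

universe u

open CategoryTheory Opposite TopologicalSpace AlgebraicGeometry
open Groth.Agent.CohBase

noncomputable section

namespace Groth.Agent.HLocLib

variable {X : Scheme.{u}} (O : X.Opens) (M : X.Modules) {ι : Type u} (U : ι → X.Opens)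

/-- The induced family of opens of the open subscheme. -/
abbrev preU (k : ι) : (O : Scheme.{u}).Opens := O.ι ⁻¹ᵁ U k

lemma inter_preU {n : ℕ} (i : Fin n → ι) : inter (preU O U) i = O.ι ⁻¹ᵁ inter U i := by
  refine le_antisymm (fun x hx => ?_) (le_iInf fun a => O.ι.preimage_mono (inter_le U i a))
  show O.ι x ∈ (inter U i : X.Opens)
  have h : ∀ a, O.ι x ∈ U (i a) := fun a => inter_le (preU O U) i a hx
  rw [← SetLike.mem_coe, inter, Opens.coe_iInf]
  exact Set.mem_iInter.2 h

lemma image_inter {n : ℕ} (i : Fin n → ι) : O.ι ''ᵁ inter (preU O U) i = O ⊓ inter U i := by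
  rw [inter_preU, Scheme.Hom.image_preimage_eq_opensRange_inf, Scheme.Opens.opensRange_ι]

lemma image_inter_le {n : ℕ} (i : Fin n → ι) : O.ι ''ᵁ inter (preU O U) i ≤ inter U i :=
  (image_inter O U i).le.trans inf_le_right

/-- Restriction of cochains to an open. -/
def rho (n : ℕ) : CC U (Coh.toAb M).obj n →+ CC (preU O U) (Coh.toAb (M.restrict O.ι)).obj n where
  toFun c i := res (Coh.toAb M).obj (image_inter_le O U i) (c i)
  map_zero' := funext fun i => map_zero _
  map_add' a b := funext fun i => map_add _ _ _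

lemma rho_apply (n : ℕ) (c : CC U (Coh.toAb M).obj n) (i : Fin (n + 1) → ι) :
    rho O M U n c i = res (Coh.toAb M).obj (image_inter_le O U i) (c i) := rfl

lemma res_restrict {V W : (O : Scheme.{u}).Opens} (h : W ≤ V)
    (s : (Coh.toAb (M.restrict O.ι)).obj.obj (op V)) :
    res (Coh.toAb (M.restrict O.ι)).obj h s = res (Coh.toAb M).obj (O.ι.image_mono h) s := rfl

lemma cdiff_rho (n : ℕ) (c : CC U (Coh.toAb M).obj n) :
    cdiff (preU O U) _ n (rho O M U n c) = rho O M U (n + 1) (cdiff U _ n c) := by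
  funext i
  rw [rho_apply, cdiff_apply, cdiff_apply]
  refine Eq.trans ?_ (map_sum _ _ _).symm
  refine Finset.sum_congr rfl fun j _ => ?_
  refine Eq.trans ?_ (map_zsmul _ _ _).symm
  refine congrArg _ ?_
  exact ((res_restrict O M _ _).trans (res_res (Coh.toAb M).obj _ _ _)).trans (res_res (Coh.toAb M).obj _ _ _).symm

/-- The restriction of a global function. -/
def resFun : Coh.Γtop X →+* Coh.Γtop (O : Scheme.{u}) :=
  (X.presheaf.map (homOfLE (le_top : O.ι ''ᵁ ⊤ ≤ ⊤)).op).hom

lemma smulAb_eq_sc (N : X.Modules) (r : Coh.Γtop X) (W : X.Opens) (s : Γ(N, W)) :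
    (Coh.smulAb N r).hom.app (op W) s = sc (M := N) (show Γ(X, ⊤) from r) le_top s := rfl

lemma smulAb_restrict (r : Coh.Γtop X) (V : (O : Scheme.{u}).Opens) (s : Γ(M, O.ι ''ᵁ V)) :
    (Coh.smulAb (M.restrict O.ι) (resFun O r)).hom.app (op V) s =
      sc (M := M) (show Γ(X, ⊤) from r) le_top s := by
  refine (Scheme.Modules.smul_restrictAppIso_hom_apply O.ι M V _ s).trans ?_
  rw [Scheme.Opens.ι_appIso, sc_apply]
  congr 1
  show (X.presheaf.map _ ≫ X.presheaf.map _) (show Γ(X, ⊤) from r) = _
  rw [← X.presheaf.map_comp]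
  rfl

lemma rho_smul (n : ℕ) (r : Coh.Γtop X) (c : CC U (Coh.toAb M).obj n) :
    rho O M U n (ccMap U (Coh.smulAb M r).hom n c) =
      ccMap (preU O U) (Coh.smulAb (M.restrict O.ι) (resFun O r)).hom n (rho O M U n c) := by
  funext i
  refine Eq.trans ?_ (smulAb_restrict O M r _ _).symm
  exact map_sc (show Γ(X, ⊤) from r) le_top (image_inter_le O U i) _

end Groth.Agent.HLocLib
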